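import Mathlib

/-!
# S3894 (no nilpotent minimal cover between PSL_n and PGL_n): package statements

Each `Pkg*` below is a self-contained statement (a `Prop`); the assembly of S3894 takes them as
hypotheses.  Conventions for 2 x 2 matrices `t`: "non-diagonal" is `t 0 1 ≠ 0 ∨ t 1 0 ≠ 0`;
`g` "normalises span(1, t)" is `∃ x y, y ≠ 0 ∧ g * t = (x • 1 + y • t) * g`.
-/

set_option autoImplicit false

namespace Cfsg.Agent.Lib.Helper79.NilCover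

open Matrix

/-- [CI] counting lemma I: every member containing `a i` (or `b i`) lies in the proper subgroup
`S i`, the `a i`, `b i` lie in no other `S j`, and no member contains both `a i` and `b i`;
then the cover is not minimal (replace the members lying in some `S i` by the `S i`). -/
def PkgCoverI.{u, v} : Prop :=
  ∀ {Γ : Type u} [Group Γ] {ι : Type v} [Finite ι] [Nonempty ι]
    (S : ι → Subgroup Γ) (a b : ι → Γ) (_hS : ∀ i, S i ≠ ⊤)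
    (𝓐 : Finset (Subgroup Γ)) (_hprop : ∀ A ∈ 𝓐, A ≠ ⊤) (_hcov : ∀ g : Γ, ∃ A ∈ 𝓐, g ∈ A)
    (_hmin : ∀ 𝓑 : Finset (Subgroup Γ),
      (∀ A ∈ 𝓑, A ≠ ⊤) ∧ (∀ g : Γ, ∃ A ∈ 𝓑, g ∈ A) → 𝓐.card ≤ 𝓑.card)
    (_h1a : ∀ A ∈ 𝓐, ∀ i, a i ∈ A → A ≤ S i) (_h1b : ∀ A ∈ 𝓐, ∀ i, b i ∈ A → A ≤ S i)
    (_h2a : ∀ i j, a i ∈ S j → S i = S j) (_h2b : ∀ i j, b i ∈ S j → S i = S j)
    (_h3 : ∀ A ∈ 𝓐, ∀ i, a i ∈ A → b i ∈ A → False), False

/-- [CII] counting lemma II: the proper subgroups `S i` cover; members containing `a i` and `a j`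
force `S i = S j`; no member contains `b` and some `a i`; then the cover is not minimal. -/
def PkgCoverII.{u, v} : Prop :=
  ∀ {Γ : Type u} [Group Γ] {ι : Type v} [Finite ι]
    (S : ι → Subgroup Γ) (a : ι → Γ) (b : Γ) (_hS : ∀ i, S i ≠ ⊤)
    (_hScov : ∀ g : Γ, ∃ i, g ∈ S i)
    (𝓐 : Finset (Subgroup Γ)) (_hcov : ∀ g : Γ, ∃ A ∈ 𝓐, g ∈ A)
    (_hmin : ∀ 𝓑 : Finset (Subgroup Γ),
      (∀ A ∈ 𝓑, A ≠ ⊤) ∧ (∀ g : Γ, ∃ A ∈ 𝓑, g ∈ A) → 𝓐.card ≤ 𝓑.card)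
    (_h1 : ∀ A ∈ 𝓐, ∀ i j, a i ∈ A → a j ∈ A → S i = S j)
    (_h3 : ∀ A ∈ 𝓐, ∀ i, a i ∈ A → b ∈ A → False), False

/-- [ENG] Engel-type lemma: a nilpotent `K` containing `u ∈ S` lies in `S` as soon as
`γ u γ⁻¹ ∈ S` forces `γ ∈ S` (downward induction along the lower central series). -/
def PkgEngel.{u} : Prop :=
  ∀ {Γ : Type u} [Group Γ] (K S : Subgroup Γ) (_hK : Group.IsNilpotent K) (u : Γ)
    (_huK : u ∈ K) (_huS : u ∈ S) (_h : ∀ γ ∈ K, γ * u * γ⁻¹ ∈ S → γ ∈ S), K ≤ S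

/-- [CEN] a nontrivial nilpotent subgroup has a nontrivial central element. -/
def PkgCenter.{u} : Prop :=
  ∀ {Γ : Type u} [Group Γ] (K : Subgroup Γ) (_hK : Group.IsNilpotent K) (x : Γ)
    (_hx : x ∈ K) (_hx1 : x ≠ 1), ∃ z ∈ K, z ≠ 1 ∧ ∀ k ∈ K, k * z = z * k

/-- [CZ] the centraliser of a non-scalar 2 x 2 matrix `z` is `span(1, z)`. -/
def PkgCentralizer.{u} : Prop :=
  ∀ {F : Type u} [Field F] (z t : Matrix (Fin 2) (Fin 2) F)
    (_hz : z 0 1 ≠ 0 ∨ z 1 0 ≠ 0 ∨ z 0 0 ≠ z 1 1) (_h : z * t = t * z),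
    ∃ α β : F, t = α • (1 : Matrix (Fin 2) (Fin 2) F) + β • z

/-- [RIG] rigidity: if `z t = c t z` with `t`, `z` invertible and (`tr t ≠ 0` or char 2), then
`z t = t z`. -/
def PkgRigid.{u} : Prop :=
  ∀ {F : Type u} [Field F] (t z : Matrix (Fin 2) (Fin 2) F) (_ht : t.det ≠ 0)
    (_hz : z.det ≠ 0) (_htr : t.trace ≠ 0 ∨ (2 : F) = 0) (c : F) (_h : z * t = c • (t * z)),
    z * t = t * z

/-- [CD] a matrix commuting with `diag(d₁, d₂)`, `d₁ ≠ d₂`, is diagonal. -/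
def PkgCommDiag.{u} : Prop :=
  ∀ {F : Type u} [Field F] (z : Matrix (Fin 2) (Fin 2) F) (d₁ d₂ : F) (_hd : d₁ ≠ d₂)
    (_h : z * !![d₁, 0; 0, d₂] = !![d₁, 0; 0, d₂] * z), z 0 1 = 0 ∧ z 1 0 = 0

/-- [N1] if `X² - τX + δ` has no root in the finite field `F` (`|F| ≥ 4`), the algebra
`F[g]` (`g` with that characteristic polynomial) contains `α + β g`, `β ≠ 0`, of determinant `1`
and with nonzero trace (or char 2). -/
def PkgNormOne.{u} : Prop :=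
  ∀ {F : Type u} [Field F] [Fintype F] (_hq : 4 ≤ Fintype.card F) (τ δ : F)
    (_h : ∀ a : F, a ^ 2 + τ * a + δ ≠ 0),
    ∃ α β : F, β ≠ 0 ∧ α ^ 2 + α * β * τ + β ^ 2 * δ = 1 ∧ (2 * α + β * τ ≠ 0 ∨ (2 : F) = 0)

/-- [PR] for a non-diagonal `t`, some matrix of determinant `1` does not normalise
`span(1, t)` (`|F| ≥ 3`). -/
def PkgProper.{u} : Prop :=
  ∀ {F : Type u} [Field F] [Fintype F] (_hq : 3 ≤ Fintype.card F)
    (t : Matrix (Fin 2) (Fin 2) F) (_ht : t 0 1 ≠ 0 ∨ t 1 0 ≠ 0),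
    ∃ g : Matrix (Fin 2) (Fin 2) F, g.det = 1 ∧
      ¬ ∃ x y : F, y ≠ 0 ∧ g * t = (x • (1 : Matrix (Fin 2) (Fin 2) F) + y • t) * g

/-- [BO] an invertible `g` with an eigenvector normalises `span(1, t)` for a non-diagonal
transvection `t` (determinant `1`, trace `2`). -/
def PkgBorel.{u} : Prop :=
  ∀ {F : Type u} [Field F] (g : Matrix (Fin 2) (Fin 2) F) (_hg : g.det ≠ 0)
    (v : Fin 2 → F) (_hv : v ≠ 0) (c : F) (_h : g *ᵥ v = c • v),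
    ∃ t : Matrix (Fin 2) (Fin 2) F, t.det = 1 ∧ t.trace = 2 ∧ (t 0 1 ≠ 0 ∨ t 1 0 ≠ 0) ∧
      ∃ x y : F, y ≠ 0 ∧ g * t = (x • (1 : Matrix (Fin 2) (Fin 2) F) + y • t) * g

/-- [SP] the special case (`F` of order 5 in disguise: every nonzero `a` has `a² = ±1`). -/
def PkgSpecial.{u} : Prop :=
  ∀ {F : Type u} [Field F] (_h2 : (2 : F) ≠ 0)
    (_hB : ∀ a : F, a ≠ 0 → a ^ 2 = 1 ∨ a ^ 2 = -1) (i : F) (_hi : i ^ 2 = -1)
    (t z : Matrix (Fin 2) (Fin 2) F) (_ht : t.det = 1) (_htr : t.trace ≠ 0)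
    (_htd : t 0 1 ≠ 0 ∨ t 1 0 ≠ 0) (_hz : z.det ≠ 0) (_hzt : z * t = t * z)
    (_hzs : z * !![i, 0; 0, -i] = -(!![i, 0; 0, -i] * z))
    (_hdet : ∀ μ : F, z.det ≠ i * μ ^ 2), False

/-- the regular unipotent matrix (`1` on the diagonal and on the superdiagonal) -/
def ncU (n : ℕ) (F : Type*) [Field F] : Matrix (Fin n) (Fin n) F :=
  fun i j => if j = i ∨ j.val = i.val + 1 then 1 else 0

/-- [U] `ncU` has determinant `1`, fixes `e₀`, and all its eigenvectors are multiples of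
`e₀`. -/
def PkgU.{u} : Prop :=
  ∀ (n : ℕ) (F : Type u) [Field F] (hn : 0 < n),
    (ncU n F).det = 1 ∧
    ncU n F *ᵥ (Pi.single (⟨0, hn⟩ : Fin n) (1 : F) : Fin n → F) =
      (Pi.single (⟨0, hn⟩ : Fin n) (1 : F) : Fin n → F) ∧
    ∀ (w : Fin n → F) (c : F), ncU n F *ᵥ w = c • w →
      ∃ d : F, w = d • (Pi.single (⟨0, hn⟩ : Fin n) (1 : F) : Fin n → F)

/-- [UD] dual statement: the last row vector is fixed by `ncU` and all left eigenvectors are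
multiples of it. -/
def PkgUDual.{u} : Prop :=
  ∀ (n : ℕ) (F : Type u) [Field F] (hn : 0 < n),
    (Pi.single (⟨n - 1, Nat.sub_lt hn Nat.one_pos⟩ : Fin n) (1 : F) : Fin n → F) ᵥ* ncU n F =
      (Pi.single (⟨n - 1, Nat.sub_lt hn Nat.one_pos⟩ : Fin n) (1 : F) : Fin n → F) ∧
    ∀ (w : Fin n → F) (c : F), w ᵥ* ncU n F = c • w →
      ∃ d : F, w = d •
        (Pi.single (⟨n - 1, Nat.sub_lt hn Nat.one_pos⟩ : Fin n) (1 : F) : Fin n → F)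

end Cfsg.Agent.Lib.Helper79.NilCover
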