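import Mathlib
import Cfsg.Agent.Lib.Helper79.NilCover.Defs

set_option autoImplicit false

namespace Cfsg.Agent.Lib.Helper79.NilCover

open Matrix

universe u

variable {F : Type u} [Field F] {n : ℕ}

/-- image in `G` of a subgroup of `GL` -/
def imG (G : Subgroup (GL (Fin n) F ⧸ Subgroup.center (GL (Fin n) F)))
    (S : Subgroup (GL (Fin n) F)) : Subgroup ↥G :=
  (S.map (QuotientGroup.mk' (Subgroup.center (GL (Fin n) F)))).comap G.subtype

theorem mem_imG_iff (G : Subgroup (GL (Fin n) F ⧸ Subgroup.center (GL (Fin n) F)))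
    (S : Subgroup (GL (Fin n) F)) (hS : Subgroup.center (GL (Fin n) F) ≤ S)
    (g : GL (Fin n) F) (hg : QuotientGroup.mk' (Subgroup.center (GL (Fin n) F)) g ∈ G) :
    (⟨QuotientGroup.mk' (Subgroup.center (GL (Fin n) F)) g, hg⟩ : ↥G) ∈ imG G S ↔ g ∈ S := by
  unfold imG
  rw [Subgroup.mem_comap, Subgroup.mem_map]
  constructor
  · rintro ⟨s, hs, hsg⟩
    have h1 : s⁻¹ * g ∈ Subgroup.center (GL (Fin n) F) := by
      have : QuotientGroup.mk' (Subgroup.center (GL (Fin n) F)) s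
          = QuotientGroup.mk' (Subgroup.center (GL (Fin n) F)) g := hsg
      exact QuotientGroup.eq.mp this
    have h2 : g = s * (s⁻¹ * g) := by group
    rw [h2]
    exact S.mul_mem hs (hS h1)
  · intro h
    exact ⟨g, h, rfl⟩

/-- Engel lemma transported to `G`. -/
theorem imG_engel (hE : PkgEngel.{u})
    (G : Subgroup (GL (Fin n) F ⧸ Subgroup.center (GL (Fin n) F)))
    (A : Subgroup ↥G) (hA : Group.IsNilpotent A) (S : Subgroup (GL (Fin n) F))
    (hS : Subgroup.center (GL (Fin n) F) ≤ S) (u : GL (Fin n) F)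
    (hu : QuotientGroup.mk' (Subgroup.center (GL (Fin n) F)) u ∈ G)
    (huA : (⟨QuotientGroup.mk' (Subgroup.center (GL (Fin n) F)) u, hu⟩ : ↥G) ∈ A)
    (huS : u ∈ S) (hstep : ∀ g : GL (Fin n) F, g * u * g⁻¹ ∈ S → g ∈ S) :
    A ≤ imG G S := by
  refine hE A (imG G S) hA _ huA ((mem_imG_iff G S hS u hu).mpr huS) ?_
  rintro ⟨γ, hγG⟩ _ hconj
  obtain ⟨g, rfl⟩ := QuotientGroup.mk'_surjective (Subgroup.center (GL (Fin n) F)) γ
  rw [mem_imG_iff G S hS g hγG]
  apply hstep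
  have hmem : QuotientGroup.mk' (Subgroup.center (GL (Fin n) F)) (g * u * g⁻¹) ∈ G := by
    rw [map_mul, map_mul, map_inv]
    exact G.mul_mem (G.mul_mem hγG hu) (G.inv_mem hγG)
  rw [← mem_imG_iff G S hS _ hmem]
  convert hconj using 1
  apply Subtype.ext
  simp

/-- stabiliser of the line through `v` -/
def stabV (v : Fin n → F) : Subgroup (GL (Fin n) F) where
  carrier := {g | ∃ c : Fˣ, (g : Matrix (Fin n) (Fin n) F) *ᵥ v = (c : F) • v}
  one_mem' := ⟨1, by simp⟩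
  mul_mem' := by
    rintro g h ⟨c, hc⟩ ⟨d, hd⟩
    refine ⟨d * c, ?_⟩
    rw [Units.val_mul, Units.val_mul, ← mulVec_mulVec, hd, mulVec_smul, hc, smul_smul]
  inv_mem' := by
    rintro g ⟨c, hc⟩
    refine ⟨c⁻¹, ?_⟩
    have h1 : (g⁻¹ : GL (Fin n) F).val *ᵥ (g.val *ᵥ v) = v := by
      rw [mulVec_mulVec, ← Units.val_mul, inv_mul_cancel, Units.val_one, one_mulVec]
    rw [hc, mulVec_smul] at h1
    calc (g⁻¹ : GL (Fin n) F).val *ᵥ v
        = ((c⁻¹ : Fˣ) : F) • ((c : F) • (g⁻¹ : GL (Fin n) F).val *ᵥ v) := by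
          rw [smul_smul]; simp
      _ = ((c⁻¹ : Fˣ) : F) • v := by rw [h1]

theorem center_le_stabV (v : Fin n → F) : Subgroup.center (GL (Fin n) F) ≤ stabV v := by
  intro g hg
  rw [Matrix.GeneralLinearGroup.center_eq_range_scalar] at hg
  obtain ⟨c, rfl⟩ := hg
  refine ⟨c, ?_⟩
  rw [Matrix.GeneralLinearGroup.coe_scalar]
  ext i
  simp [Matrix.mulVec, dotProduct, Matrix.diagonal_apply]

/-- stabiliser of the line through the row vector `φ` -/
def stabD (φ : Fin n → F) : Subgroup (GL (Fin n) F) where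
  carrier := {g | ∃ c : Fˣ, φ ᵥ* (g : Matrix (Fin n) (Fin n) F) = (c : F) • φ}
  one_mem' := ⟨1, by simp⟩
  mul_mem' := by
    rintro g h ⟨c, hc⟩ ⟨d, hd⟩
    refine ⟨c * d, ?_⟩
    rw [Units.val_mul, Units.val_mul, ← vecMul_vecMul, hc, smul_vecMul, hd, smul_smul]
  inv_mem' := by
    rintro g ⟨c, hc⟩
    refine ⟨c⁻¹, ?_⟩
    have h1 : (φ ᵥ* g.val) ᵥ* (g⁻¹ : GL (Fin n) F).val = φ := by
      rw [vecMul_vecMul, ← Units.val_mul, mul_inv_cancel, Units.val_one, vecMul_one]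
    rw [hc, smul_vecMul] at h1
    calc φ ᵥ* (g⁻¹ : GL (Fin n) F).val
        = ((c⁻¹ : Fˣ) : F) • ((c : F) • φ ᵥ* (g⁻¹ : GL (Fin n) F).val) := by
          rw [smul_smul]; simp
      _ = ((c⁻¹ : Fˣ) : F) • φ := by rw [h1]

theorem center_le_stabD (φ : Fin n → F) : Subgroup.center (GL (Fin n) F) ≤ stabD φ := by
  intro g hg
  rw [Matrix.GeneralLinearGroup.center_eq_range_scalar] at hg
  obtain ⟨c, rfl⟩ := hg
  refine ⟨c, ?_⟩
  rw [Matrix.GeneralLinearGroup.coe_scalar]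
  ext i
  simp [Matrix.vecMul, dotProduct, Matrix.diagonal_apply, mul_comm]

/-- `v` is fixed by `u` and spans the only eigenline of `u` -/
def RegV (u : Matrix (Fin n) (Fin n) F) (v : Fin n → F) : Prop :=
  u *ᵥ v = v ∧ ∀ (w : Fin n → F) (c : F), u *ᵥ w = c • w → ∃ d : F, w = d • v

/-- dual version of `RegV` -/
def RegD (u : Matrix (Fin n) (Fin n) F) (φ : Fin n → F) : Prop :=
  φ ᵥ* u = φ ∧ ∀ (ψ : Fin n → F) (c : F), ψ ᵥ* u = c • ψ → ∃ d : F, ψ = d • φ

theorem mulVec_ne_zero_GL (g : GL (Fin n) F) (v : Fin n → F) (hv : v ≠ 0) : g.val *ᵥ v ≠ 0 := by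
  intro h
  apply hv
  have h1 : (g⁻¹ : GL (Fin n) F).val *ᵥ (g.val *ᵥ v) = v := by
    rw [mulVec_mulVec, ← Units.val_mul, inv_mul_cancel, Units.val_one, one_mulVec]
  rw [← h1, h, mulVec_zero]

theorem vecMul_ne_zero_GL (g : GL (Fin n) F) (φ : Fin n → F) (hφ : φ ≠ 0) : φ ᵥ* g.val ≠ 0 := by
  intro h
  apply hφ
  have h1 : (φ ᵥ* g.val) ᵥ* (g⁻¹ : GL (Fin n) F).val = φ := by
    rw [vecMul_vecMul, ← Units.val_mul, mul_inv_cancel, Units.val_one, vecMul_one]
  rw [← h1, h, zero_vecMul]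

theorem RegV.mem_stab {u : GL (Fin n) F} {v : Fin n → F} (hR : RegV u.val v) : u ∈ stabV v :=
  ⟨1, by rw [hR.1]; simp⟩

theorem RegD.mem_stab {u : GL (Fin n) F} {φ : Fin n → F} (hR : RegD u.val φ) : u ∈ stabD φ :=
  ⟨1, by rw [hR.1]; simp⟩

theorem stabV_step (u g : GL (Fin n) F) (v : Fin n → F) (hv : v ≠ 0) (hR : RegV u.val v)
    (h : g * u * g⁻¹ ∈ stabV v) : g ∈ stabV v := by
  obtain ⟨c, hc⟩ := h
  have hw : u.val *ᵥ ((g⁻¹ : GL (Fin n) F).val *ᵥ v) = (c : F) • ((g⁻¹ : GL (Fin n) F).val *ᵥ v) := by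
    have h1 : (g⁻¹ : GL (Fin n) F).val *ᵥ ((g * u * g⁻¹ : GL (Fin n) F).val *ᵥ v)
        = u.val *ᵥ ((g⁻¹ : GL (Fin n) F).val *ᵥ v) := by
      rw [mulVec_mulVec, mulVec_mulVec, ← Units.val_mul, ← Units.val_mul]
      congr 2
      group
    rw [← h1, hc, mulVec_smul]
  obtain ⟨d, hd⟩ := hR.2 _ _ hw
  have hd0 : d ≠ 0 := by
    rintro rfl
    rw [zero_smul] at hd
    exact mulVec_ne_zero_GL g⁻¹ v hv hd
  have : g⁻¹ ∈ stabV v := ⟨Units.mk0 d hd0, hd⟩
  simpa using (stabV v).inv_mem this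

theorem stabD_step (u g : GL (Fin n) F) (φ : Fin n → F) (hφ : φ ≠ 0) (hR : RegD u.val φ)
    (h : g * u * g⁻¹ ∈ stabD φ) : g ∈ stabD φ := by
  obtain ⟨c, hc⟩ := h
  have hw : (φ ᵥ* g.val) ᵥ* u.val = (c : F) • (φ ᵥ* g.val) := by
    have h1 : (φ ᵥ* (g * u * g⁻¹ : GL (Fin n) F).val) ᵥ* g.val = (φ ᵥ* g.val) ᵥ* u.val := by
      rw [vecMul_vecMul, vecMul_vecMul, ← Units.val_mul, ← Units.val_mul]
      congr 2
      group
    rw [← h1, hc, smul_vecMul]
  obtain ⟨d, hd⟩ := hR.2 _ _ hw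
  have hd0 : d ≠ 0 := by
    rintro rfl
    rw [zero_smul] at hd
    exact vecMul_ne_zero_GL g φ hφ hd
  exact ⟨Units.mk0 d hd0, hd⟩

theorem RegV.conj (h u : GL (Fin n) F) (v : Fin n → F) (hR : RegV u.val v) :
    RegV (h * u * h⁻¹ : GL (Fin n) F).val (h.val *ᵥ v) := by
  constructor
  · rw [mulVec_mulVec, ← Units.val_mul]
    have : h * u * h⁻¹ * h = h * u := by group
    rw [this, Units.val_mul, ← mulVec_mulVec, hR.1]
  · intro w c hw
    have h1 : u.val *ᵥ ((h⁻¹ : GL (Fin n) F).val *ᵥ w) = c • ((h⁻¹ : GL (Fin n) F).val *ᵥ w) := by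
      rw [← mulVec_smul, ← hw, mulVec_mulVec, mulVec_mulVec, ← Units.val_mul, ← Units.val_mul]
      congr 2
      group
    obtain ⟨d, hd⟩ := hR.2 _ _ h1
    refine ⟨d, ?_⟩
    rw [← mulVec_smul, ← hd, mulVec_mulVec, ← Units.val_mul, mul_inv_cancel, Units.val_one,
      one_mulVec]

theorem RegD.conj (h u : GL (Fin n) F) (φ : Fin n → F) (hR : RegD u.val φ) :
    RegD (h * u * h⁻¹ : GL (Fin n) F).val (φ ᵥ* (h⁻¹ : GL (Fin n) F).val) := by
  constructor
  · rw [vecMul_vecMul, ← Units.val_mul]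
    have : h⁻¹ * (h * u * h⁻¹) = u * h⁻¹ := by group
    rw [this, Units.val_mul, ← vecMul_vecMul, hR.1]
  · intro ψ c hψ
    have h1 : (ψ ᵥ* h.val) ᵥ* u.val = c • (ψ ᵥ* h.val) := by
      rw [← smul_vecMul, ← hψ, vecMul_vecMul, vecMul_vecMul, ← Units.val_mul, ← Units.val_mul]
      congr 2
      group
    obtain ⟨d, hd⟩ := hR.2 _ _ h1
    refine ⟨d, ?_⟩
    rw [← smul_vecMul, ← hd, vecMul_vecMul, ← Units.val_mul, mul_inv_cancel, Units.val_one,
      vecMul_one]

theorem stabV_smul (v : Fin n → F) (d : F) (hd : d ≠ 0) : stabV (d • v) = stabV v := by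
  ext g
  constructor
  · rintro ⟨c, hc⟩
    refine ⟨c, ?_⟩
    rw [mulVec_smul, smul_comm] at hc
    exact smul_right_injective _ hd hc
  · rintro ⟨c, hc⟩
    refine ⟨c, ?_⟩
    rw [mulVec_smul, hc, smul_comm]


theorem conj_mem_stabV (h g : GL (Fin n) F) (v : Fin n → F) :
    h * g * h⁻¹ ∈ stabV (h.val *ᵥ v) ↔ g ∈ stabV v := by
  have key : (h * g * h⁻¹ : GL (Fin n) F).val *ᵥ (h.val *ᵥ v) = h.val *ᵥ (g.val *ᵥ v) := by
    rw [mulVec_mulVec, mulVec_mulVec, ← Units.val_mul, ← Units.val_mul]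
    congr 2
    group
  constructor
  · rintro ⟨c, hc⟩
    refine ⟨c, ?_⟩
    rw [key, ← mulVec_smul] at hc
    have h1 : ∀ x : Fin n → F, (h⁻¹ : GL (Fin n) F).val *ᵥ (h.val *ᵥ x) = x := by
      intro x
      rw [mulVec_mulVec, ← Units.val_mul, inv_mul_cancel, Units.val_one, one_mulVec]
    rw [← h1 (g.val *ᵥ v), hc, h1]
  · rintro ⟨c, hc⟩
    refine ⟨c, ?_⟩
    rw [key, hc, mulVec_smul]

theorem conj_mem_stabD (h g : GL (Fin n) F) (φ : Fin n → F) :
    h * g * h⁻¹ ∈ stabD (φ ᵥ* (h⁻¹ : GL (Fin n) F).val) ↔ g ∈ stabD φ := by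
  have key : (φ ᵥ* (h⁻¹ : GL (Fin n) F).val) ᵥ* (h * g * h⁻¹ : GL (Fin n) F).val
      = (φ ᵥ* g.val) ᵥ* (h⁻¹ : GL (Fin n) F).val := by
    rw [vecMul_vecMul, vecMul_vecMul, ← Units.val_mul, ← Units.val_mul]
    congr 2
    group
  constructor
  · rintro ⟨c, hc⟩
    refine ⟨c, ?_⟩
    rw [key, ← smul_vecMul] at hc
    have h1 : ∀ x : Fin n → F, (x ᵥ* (h⁻¹ : GL (Fin n) F).val) ᵥ* h.val = x := by
      intro x
      rw [vecMul_vecMul, ← Units.val_mul, inv_mul_cancel, Units.val_one, vecMul_one]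
    rw [← h1 (φ ᵥ* g.val), hc, h1]
  · rintro ⟨c, hc⟩
    refine ⟨c, ?_⟩
    rw [key, hc, smul_vecMul]

/-- `SL → G` -/
def incl (G : Subgroup (GL (Fin n) F ⧸ Subgroup.center (GL (Fin n) F)))
    (hG : ((Matrix.SpecialLinearGroup.toGL :
      Matrix.SpecialLinearGroup (Fin n) F →* GL (Fin n) F).range).map
      (QuotientGroup.mk' (Subgroup.center (GL (Fin n) F))) ≤ G)
    (s : Matrix.SpecialLinearGroup (Fin n) F) : ↥G :=
  ⟨QuotientGroup.mk' (Subgroup.center (GL (Fin n) F)) (Matrix.SpecialLinearGroup.toGL s),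
    hG (Subgroup.mem_map_of_mem _ ⟨s, rfl⟩)⟩

theorem incl_mem_imG_iff (G : Subgroup (GL (Fin n) F ⧸ Subgroup.center (GL (Fin n) F)))
    (hG : ((Matrix.SpecialLinearGroup.toGL :
      Matrix.SpecialLinearGroup (Fin n) F →* GL (Fin n) F).range).map
      (QuotientGroup.mk' (Subgroup.center (GL (Fin n) F))) ≤ G)
    (S : Subgroup (GL (Fin n) F)) (hS : Subgroup.center (GL (Fin n) F) ≤ S)
    (s : Matrix.SpecialLinearGroup (Fin n) F) :
    incl G hG s ∈ imG G S ↔ Matrix.SpecialLinearGroup.toGL s ∈ S :=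
  mem_imG_iff G S hS _ _

theorem main_ge3 (hI : PkgCoverI.{u, u}) (hE : PkgEngel.{u}) (hU : PkgU.{u})
    (hUD : PkgUDual.{u}) [Fintype F] (hn : 3 ≤ n)
    (G : Subgroup (GL (Fin n) F ⧸ Subgroup.center (GL (Fin n) F)))
    (hG : ((Matrix.SpecialLinearGroup.toGL :
      Matrix.SpecialLinearGroup (Fin n) F →* GL (Fin n) F).range).map
      (QuotientGroup.mk' (Subgroup.center (GL (Fin n) F))) ≤ G) :
    ¬ ∃ 𝓐 : Finset (Subgroup ↥G), ((∀ A ∈ 𝓐, A ≠ ⊤) ∧ (∀ g : ↥G, ∃ A ∈ 𝓐, g ∈ A)) ∧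
      (∀ 𝓑 : Finset (Subgroup ↥G), (∀ A ∈ 𝓑, A ≠ ⊤) ∧ (∀ g : ↥G, ∃ A ∈ 𝓑, g ∈ A) →
        𝓐.card ≤ 𝓑.card) ∧ (∀ A ∈ 𝓐, Group.IsNilpotent ↥A) := by
  rintro ⟨𝓐, ⟨hprop, hcov⟩, hmin, hnil⟩
  have hn0 : 0 < n := by omega
  obtain ⟨hUdet, hUfix, hUeig⟩ := hU n F hn0
  obtain ⟨hDfix, hDeig⟩ := hUD n F hn0
  set e₀ : Fin n → F := Pi.single (⟨0, hn0⟩ : Fin n) (1 : F) with he₀
  set φ₀ : Fin n → F :=
    Pi.single (⟨n - 1, Nat.sub_lt hn0 Nat.one_pos⟩ : Fin n) (1 : F) with hφ₀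
  let U₀ : Matrix.SpecialLinearGroup (Fin n) F := ⟨ncU n F, hUdet⟩
  have hne1 : (⟨n - 1, Nat.sub_lt hn0 Nat.one_pos⟩ : Fin n) ≠ ⟨1, by omega⟩ := by
    intro h
    have := congrArg Fin.val h
    simp at this
    omega
  have hne2 : (⟨1, by omega⟩ : Fin n) ≠ ⟨0, hn0⟩ := by
    intro h
    have := congrArg Fin.val h
    simp at this
  let g₀ : Matrix.SpecialLinearGroup (Fin n) F :=
    ⟨transvection (⟨n - 1, Nat.sub_lt hn0 Nat.one_pos⟩ : Fin n) ⟨1, by omega⟩ (1 : F),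
      det_transvection_of_ne _ _ hne1 1⟩
  let l₀ : Matrix.SpecialLinearGroup (Fin n) F :=
    ⟨transvection (⟨1, by omega⟩ : Fin n) ⟨0, hn0⟩ (1 : F), det_transvection_of_ne _ _ hne2 1⟩
  have hRV : RegV (Matrix.SpecialLinearGroup.toGL U₀).val e₀ := ⟨hUfix, hUeig⟩
  have hRD : RegD (Matrix.SpecialLinearGroup.toGL U₀).val φ₀ := ⟨hDfix, hDeig⟩
  have he₀ne : e₀ ≠ 0 := by
    intro h
    have := congrFun h ⟨0, hn0⟩
    simp [he₀] at this
  have hφ₀ne : φ₀ ≠ 0 := by
    intro h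
    have := congrFun h ⟨n - 1, Nat.sub_lt hn0 Nat.one_pos⟩
    simp [hφ₀] at this
  have hg₀e : (Matrix.SpecialLinearGroup.toGL g₀).val *ᵥ e₀ = e₀ := by
    show (transvection (⟨n - 1, Nat.sub_lt hn0 Nat.one_pos⟩ : Fin n) ⟨1, by omega⟩ (1 : F)) *ᵥ e₀
      = e₀
    rw [he₀, mulVec_single_one]
    ext a
    simp only [Matrix.col_apply, transvection, Matrix.add_apply, Matrix.one_apply,
      Matrix.single_apply, Pi.single_apply]
    have : ¬ ((⟨n - 1, Nat.sub_lt hn0 Nat.one_pos⟩ : Fin n) = a ∧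
        (⟨1, by omega⟩ : Fin n) = ⟨0, hn0⟩) := fun h => hne2 h.2
    simp [this]
  have hl₀ : Matrix.SpecialLinearGroup.toGL l₀ ∉ stabV e₀ := by
    rintro ⟨c, hc⟩
    have hc' : (transvection (⟨1, by omega⟩ : Fin n) ⟨0, hn0⟩ (1 : F)) *ᵥ e₀ = (c : F) • e₀ := hc
    rw [he₀, mulVec_single_one] at hc'
    have := congrFun hc' ⟨1, by omega⟩
    simp [transvection, Matrix.one_apply, Matrix.single_apply, Pi.single_apply, hne2] at this
  have hg₀φ : ∀ d : F, φ₀ ᵥ* (Matrix.SpecialLinearGroup.toGL g₀).val ≠ d • φ₀ := by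
    intro d hd
    have hd' : φ₀ ᵥ* (transvection (⟨n - 1, Nat.sub_lt hn0 Nat.one_pos⟩ : Fin n) ⟨1, by omega⟩
      (1 : F)) = d • φ₀ := hd
    rw [hφ₀, single_one_vecMul] at hd'
    have := congrFun hd' ⟨1, by omega⟩
    simp [transvection, Matrix.one_apply, Matrix.single_apply, Pi.single_apply, hne1] at this
  have hb_eq : ∀ h : Matrix.SpecialLinearGroup (Fin n) F,
      Matrix.SpecialLinearGroup.toGL (h * g₀ * U₀ * g₀⁻¹ * h⁻¹)
        = (Matrix.SpecialLinearGroup.toGL h * Matrix.SpecialLinearGroup.toGL g₀)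
          * Matrix.SpecialLinearGroup.toGL U₀
          * (Matrix.SpecialLinearGroup.toGL h * Matrix.SpecialLinearGroup.toGL g₀)⁻¹ := by
    intro h
    simp only [map_mul, map_inv]
    group
  have hvb : ∀ h : Matrix.SpecialLinearGroup (Fin n) F,
      (Matrix.SpecialLinearGroup.toGL h * Matrix.SpecialLinearGroup.toGL g₀).val *ᵥ e₀
        = (Matrix.SpecialLinearGroup.toGL h).val *ᵥ e₀ := by
    intro h
    rw [Units.val_mul, ← mulVec_mulVec, hg₀e]
  have hRa : ∀ h : Matrix.SpecialLinearGroup (Fin n) F,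
      RegV (Matrix.SpecialLinearGroup.toGL (h * U₀ * h⁻¹)).val
        ((Matrix.SpecialLinearGroup.toGL h).val *ᵥ e₀) := by
    intro h
    rw [map_mul, map_mul, map_inv]
    exact hRV.conj _ _ _
  have hRb : ∀ h : Matrix.SpecialLinearGroup (Fin n) F,
      RegV (Matrix.SpecialLinearGroup.toGL (h * g₀ * U₀ * g₀⁻¹ * h⁻¹)).val
        ((Matrix.SpecialLinearGroup.toGL h).val *ᵥ e₀) := by
    intro h
    rw [hb_eq, ← hvb]
    exact hRV.conj _ _ _
  have hvne : ∀ h : Matrix.SpecialLinearGroup (Fin n) F,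
      (Matrix.SpecialLinearGroup.toGL h).val *ᵥ e₀ ≠ 0 :=
    fun h => mulVec_ne_zero_GL _ _ he₀ne
  -- generic consequences of `RegV`
  have h1gen : ∀ (s h : Matrix.SpecialLinearGroup (Fin n) F),
      RegV (Matrix.SpecialLinearGroup.toGL s).val ((Matrix.SpecialLinearGroup.toGL h).val *ᵥ e₀) →
      ∀ A ∈ 𝓐, incl G hG s ∈ A →
        A ≤ imG G (stabV ((Matrix.SpecialLinearGroup.toGL h).val *ᵥ e₀)) := by
    intro s h hR A hA hs
    exact imG_engel hE G A (hnil A hA) (stabV _) (center_le_stabV _)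
      (Matrix.SpecialLinearGroup.toGL s) _ hs hR.mem_stab
      (fun g hg => stabV_step _ g _ (hvne h) hR hg)
  have h2gen : ∀ (s h h' : Matrix.SpecialLinearGroup (Fin n) F),
      RegV (Matrix.SpecialLinearGroup.toGL s).val ((Matrix.SpecialLinearGroup.toGL h).val *ᵥ e₀) →
      incl G hG s ∈ imG G (stabV ((Matrix.SpecialLinearGroup.toGL h').val *ᵥ e₀)) →
      imG G (stabV ((Matrix.SpecialLinearGroup.toGL h).val *ᵥ e₀))
        = imG G (stabV ((Matrix.SpecialLinearGroup.toGL h').val *ᵥ e₀)) := by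
    intro s h h' hR hmem
    rw [incl_mem_imG_iff G hG _ (center_le_stabV _)] at hmem
    obtain ⟨c, hc⟩ := hmem
    obtain ⟨d, hd⟩ := hR.2 _ _ hc
    have hd0 : d ≠ 0 := by
      rintro rfl
      rw [zero_smul] at hd
      exact hvne h' hd
    rw [hd, stabV_smul _ _ hd0]
  refine hI (Γ := ↥G) (ι := Matrix.SpecialLinearGroup (Fin n) F)
    (fun h => imG G (stabV ((Matrix.SpecialLinearGroup.toGL h).val *ᵥ e₀)))
    (fun h => incl G hG (h * U₀ * h⁻¹))
    (fun h => incl G hG (h * g₀ * U₀ * g₀⁻¹ * h⁻¹))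
    ?_ 𝓐 hprop hcov hmin ?_ ?_ ?_ ?_ ?_
  · intro h htop
    have hmem : incl G hG (h * l₀ * h⁻¹) ∈
        imG G (stabV ((Matrix.SpecialLinearGroup.toGL h).val *ᵥ e₀)) := by
      rw [htop]; exact Subgroup.mem_top _
    rw [incl_mem_imG_iff G hG _ (center_le_stabV _), map_mul, map_mul, map_inv,
      conj_mem_stabV] at hmem
    exact hl₀ hmem
  · intro A hA h ha
    exact h1gen _ h (hRa h) A hA ha
  · intro A hA h hb
    exact h1gen _ h (hRb h) A hA hb
  · intro h h' hmem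
    exact h2gen _ h h' (hRa h) hmem
  · intro h h' hmem
    exact h2gen _ h h' (hRb h) hmem
  · intro A hA h ha hb
    have hRD' : RegD (Matrix.SpecialLinearGroup.toGL (h * U₀ * h⁻¹)).val
        (φ₀ ᵥ* ((Matrix.SpecialLinearGroup.toGL h)⁻¹ : GL (Fin n) F).val) := by
      rw [map_mul, map_mul, map_inv]
      exact hRD.conj _ _ _
    have hφne : φ₀ ᵥ* ((Matrix.SpecialLinearGroup.toGL h)⁻¹ : GL (Fin n) F).val ≠ 0 :=
      vecMul_ne_zero_GL _ _ hφ₀ne
    have hle := imG_engel hE G A (hnil A hA) (stabD _) (center_le_stabD _)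
      (Matrix.SpecialLinearGroup.toGL (h * U₀ * h⁻¹)) _ ha hRD'.mem_stab
      (fun g hg => stabD_step _ g _ hφne hRD' hg)
    have hb' := hle hb
    rw [incl_mem_imG_iff G hG _ (center_le_stabD _)] at hb'
    have heq : Matrix.SpecialLinearGroup.toGL (h * g₀ * U₀ * g₀⁻¹ * h⁻¹)
        = Matrix.SpecialLinearGroup.toGL h
          * (Matrix.SpecialLinearGroup.toGL g₀ * Matrix.SpecialLinearGroup.toGL U₀
            * (Matrix.SpecialLinearGroup.toGL g₀)⁻¹)
          * (Matrix.SpecialLinearGroup.toGL h)⁻¹ := by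
      simp only [map_mul, map_inv]
      group
    rw [heq, conj_mem_stabD] at hb'
    obtain ⟨c, hc⟩ := stabD_step _ _ _ hφ₀ne hRD hb'
    exact hg₀φ _ hc

/-- normaliser of `span(1, t)` -/
def nrm (t : Matrix (Fin 2) (Fin 2) F) : Subgroup (GL (Fin 2) F) where
  carrier := {g | ∃ x y : F, y ≠ 0 ∧
    g.val * t = (x • (1 : Matrix (Fin 2) (Fin 2) F) + y • t) * g.val}
  one_mem' := ⟨0, 1, one_ne_zero, by simp⟩
  mul_mem' := by
    rintro g h ⟨x, y, hy, hg⟩ ⟨x', y', hy', hh⟩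
    refine ⟨x' + y' * x, y' * y, mul_ne_zero hy' hy, ?_⟩
    calc (g * h : GL (Fin 2) F).val * t = g.val * (h.val * t) := by
          rw [Units.val_mul, mul_assoc]
      _ = g.val * ((x' • (1 : Matrix (Fin 2) (Fin 2) F) + y' • t) * h.val) := by rw [hh]
      _ = (x' • g.val + y' • (g.val * t)) * h.val := by
          rw [← mul_assoc, mul_add, Matrix.mul_smul, Matrix.mul_smul, mul_one]
      _ = (x' • g.val + y' • ((x • (1 : Matrix (Fin 2) (Fin 2) F) + y • t) * g.val)) * h.val := by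
          rw [hg]
      _ = ((x' + y' * x) • (1 : Matrix (Fin 2) (Fin 2) F) + (y' * y) • t)
            * (g * h : GL (Fin 2) F).val := by
          rw [Units.val_mul, ← mul_assoc]
          congr 1
          simp only [add_mul, Matrix.smul_mul, one_mul, smul_add, smul_smul, add_smul]
          abel
  inv_mem' := by
    rintro g ⟨x, y, hy, hg⟩
    refine ⟨-x / y, y⁻¹, inv_ne_zero hy, ?_⟩
    have e1 : (g⁻¹ : GL (Fin 2) F).val * g.val = 1 := by
      rw [← Units.val_mul, inv_mul_cancel, Units.val_one]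
    have e2 : g.val * (g⁻¹ : GL (Fin 2) F).val = 1 := by
      rw [← Units.val_mul, mul_inv_cancel, Units.val_one]
    have h1 : t * (g⁻¹ : GL (Fin 2) F).val
        = (g⁻¹ : GL (Fin 2) F).val * (x • (1 : Matrix (Fin 2) (Fin 2) F) + y • t) := by
      calc t * (g⁻¹ : GL (Fin 2) F).val
          = ((g⁻¹ : GL (Fin 2) F).val * g.val) * t * (g⁻¹ : GL (Fin 2) F).val := by
            rw [e1, one_mul]
        _ = (g⁻¹ : GL (Fin 2) F).val * (g.val * t) * (g⁻¹ : GL (Fin 2) F).val := by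
            simp only [mul_assoc]
        _ = (g⁻¹ : GL (Fin 2) F).val * ((x • (1 : Matrix (Fin 2) (Fin 2) F) + y • t) * g.val)
              * (g⁻¹ : GL (Fin 2) F).val := by rw [hg]
        _ = (g⁻¹ : GL (Fin 2) F).val * (x • (1 : Matrix (Fin 2) (Fin 2) F) + y • t)
              * (g.val * (g⁻¹ : GL (Fin 2) F).val) := by simp only [mul_assoc]
        _ = (g⁻¹ : GL (Fin 2) F).val * (x • (1 : Matrix (Fin 2) (Fin 2) F) + y • t) := by
            rw [e2, mul_one]
    rw [add_mul, Matrix.smul_mul, Matrix.smul_mul, one_mul, h1, mul_add, Matrix.mul_smul,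
      Matrix.mul_smul, mul_one, smul_add, smul_smul, smul_smul, inv_mul_cancel₀ hy, one_smul,
      ← add_assoc, ← add_smul]
    have : -x / y + y⁻¹ * x = 0 := by field_simp; ring
    rw [this, zero_smul, zero_add]

theorem center_le_nrm (t : Matrix (Fin 2) (Fin 2) F) :
    Subgroup.center (GL (Fin 2) F) ≤ nrm t := by
  intro g hg
  rw [Matrix.GeneralLinearGroup.center_eq_range_scalar] at hg
  obtain ⟨c, rfl⟩ := hg
  refine ⟨0, 1, one_ne_zero, ?_⟩
  rw [Matrix.GeneralLinearGroup.coe_scalar]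
  ext i j
  simp [Matrix.mul_apply, Matrix.diagonal_apply, mul_comm]

theorem nrm_le (z : Matrix (Fin 2) (Fin 2) F) (α β : F) :
    nrm z ≤ nrm (α • (1 : Matrix (Fin 2) (Fin 2) F) + β • z) := by
  rintro g ⟨x, y, hy, hg⟩
  refine ⟨α + β * x - y * α, y, hy, ?_⟩
  rw [mul_add, Matrix.mul_smul, Matrix.mul_smul, mul_one, hg]
  simp only [add_mul, Matrix.smul_mul, one_mul]
  module

theorem nrm_eq (z : Matrix (Fin 2) (Fin 2) F) (α β : F) (hβ : β ≠ 0) :
    nrm (α • (1 : Matrix (Fin 2) (Fin 2) F) + β • z) = nrm z := by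
  apply le_antisymm _ (nrm_le z α β)
  have h := nrm_le (α • (1 : Matrix (Fin 2) (Fin 2) F) + β • z) (-α / β) β⁻¹
  have e : (-α / β) • (1 : Matrix (Fin 2) (Fin 2) F)
      + β⁻¹ • (α • (1 : Matrix (Fin 2) (Fin 2) F) + β • z) = z := by
    rw [smul_add, smul_smul, smul_smul, inv_mul_cancel₀ hβ, one_smul, ← add_assoc, ← add_smul]
    have : -α / β + β⁻¹ * α = 0 := by field_simp; ring
    rw [this, zero_smul, zero_add]
  rwa [e] at h


theorem central_lift (hCen : PkgCenter.{u})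
    (G : Subgroup (GL (Fin n) F ⧸ Subgroup.center (GL (Fin n) F)))
    (A : Subgroup ↥G) (hA : Group.IsNilpotent A) (x : ↥G) (hx : x ∈ A) (hx1 : x ≠ 1) :
    ∃ z : GL (Fin n) F, z ∉ Subgroup.center (GL (Fin n) F) ∧
      QuotientGroup.mk' (Subgroup.center (GL (Fin n) F)) z ∈ G ∧
      ∀ (k : GL (Fin n) F) (hk : QuotientGroup.mk' (Subgroup.center (GL (Fin n) F)) k ∈ G),
        (⟨QuotientGroup.mk' (Subgroup.center (GL (Fin n) F)) k, hk⟩ : ↥G) ∈ A →
        ∃ c : F, z.val * k.val = c • (k.val * z.val) := by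
  obtain ⟨⟨ζ, hζG⟩, hζA, hζ1, hcomm⟩ := hCen A hA x hx hx1
  obtain ⟨z, rfl⟩ := QuotientGroup.mk'_surjective (Subgroup.center (GL (Fin n) F)) ζ
  refine ⟨z, ?_, hζG, ?_⟩
  · intro hz
    apply hζ1
    apply Subtype.ext
    exact (QuotientGroup.eq_one_iff z).mpr hz
  · intro k hk hkA
    have h1 := congrArg Subtype.val (hcomm _ hkA)
    have h2 : QuotientGroup.mk' (Subgroup.center (GL (Fin n) F)) (k * z)
        = QuotientGroup.mk' (Subgroup.center (GL (Fin n) F)) (z * k) := by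
      simpa using h1
    have h3 : (k * z)⁻¹ * (z * k) ∈ Subgroup.center (GL (Fin n) F) := QuotientGroup.eq.mp h2
    rw [Matrix.GeneralLinearGroup.center_eq_range_scalar] at h3
    obtain ⟨c, hc⟩ := h3
    refine ⟨c, ?_⟩
    have h4 : z * k = k * z * Matrix.GeneralLinearGroup.scalar (Fin n) c := by
      rw [hc]; group
    have h5 := congrArg Units.val h4
    rw [Units.val_mul, Units.val_mul, Units.val_mul, Matrix.GeneralLinearGroup.coe_scalar] at h5
    rw [h5]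
    ext i j
    simp [Matrix.mul_apply, Matrix.diagonal_apply, mul_comm]

theorem nonscalar_of_not_center (z : GL (Fin 2) F)
    (hz : z ∉ Subgroup.center (GL (Fin 2) F)) :
    z.val 0 1 ≠ 0 ∨ z.val 1 0 ≠ 0 ∨ z.val 0 0 ≠ z.val 1 1 := by
  by_contra h
  push Not at h
  apply hz
  rw [Matrix.GeneralLinearGroup.mem_center_iff_val_mem_range_scalar]
  refine ⟨z.val 0 0, ?_⟩
  ext i j
  fin_cases i <;> fin_cases j <;> simp [h.1, h.2.1, h.2.2]

theorem det_ne_zero_GL (z : GL (Fin n) F) : z.val.det ≠ 0 :=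
  ((Matrix.isUnit_iff_isUnit_det _).mp z.isUnit).ne_zero


theorem main_two (hII : PkgCoverII.{u, u}) (hCen : PkgCenter.{u}) (hCZ : PkgCentralizer.{u})
    (hRig : PkgRigid.{u}) (hCD : PkgCommDiag.{u}) (hN1 : PkgNormOne.{u}) (hPR : PkgProper.{u})
    (hBO : PkgBorel.{u}) (hSP : PkgSpecial.{u}) [Fintype F] (hq : 4 ≤ Fintype.card F)
    (G : Subgroup (GL (Fin 2) F ⧸ Subgroup.center (GL (Fin 2) F)))
    (hG : ((Matrix.SpecialLinearGroup.toGL :
      Matrix.SpecialLinearGroup (Fin 2) F →* GL (Fin 2) F).range).map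
      (QuotientGroup.mk' (Subgroup.center (GL (Fin 2) F))) ≤ G) :
    ¬ ∃ 𝓐 : Finset (Subgroup ↥G), ((∀ A ∈ 𝓐, A ≠ ⊤) ∧ (∀ g : ↥G, ∃ A ∈ 𝓐, g ∈ A)) ∧
      (∀ 𝓑 : Finset (Subgroup ↥G), (∀ A ∈ 𝓑, A ≠ ⊤) ∧ (∀ g : ↥G, ∃ A ∈ 𝓑, g ∈ A) →
        𝓐.card ≤ 𝓑.card) ∧ (∀ A ∈ 𝓐, Group.IsNilpotent ↥A) := by
  classical
  rintro ⟨𝓐, ⟨hprop, hcov⟩, hmin, hnil⟩
  let ι : Type u := {t : Matrix.SpecialLinearGroup (Fin 2) F //
    (t.val.trace ≠ 0 ∨ (2 : F) = 0) ∧ (t.val 0 1 ≠ 0 ∨ t.val 1 0 ≠ 0)}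
  let S : ι → Subgroup ↥G := fun t => imG G (nrm t.val.val)
  let a : ι → ↥G := fun t => incl G hG t.val
  have hz_of : ∀ A ∈ 𝓐, ∀ t : ι, a t ∈ A → ∃ z : GL (Fin 2) F,
      (z.val 0 1 ≠ 0 ∨ z.val 1 0 ≠ 0 ∨ z.val 0 0 ≠ z.val 1 1) ∧
      QuotientGroup.mk' (Subgroup.center (GL (Fin 2) F)) z ∈ G ∧
      ∀ (k : GL (Fin 2) F) (hk : QuotientGroup.mk' (Subgroup.center (GL (Fin 2) F)) k ∈ G),
        (⟨QuotientGroup.mk' (Subgroup.center (GL (Fin 2) F)) k, hk⟩ : ↥G) ∈ A →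
        ∃ c : F, z.val * k.val = c • (k.val * z.val) := by
    intro A hA t ht
    have ht1 : a t ≠ 1 := by
      intro h1
      have h2 : QuotientGroup.mk' (Subgroup.center (GL (Fin 2) F))
          (Matrix.SpecialLinearGroup.toGL t.val) = 1 := congrArg Subtype.val h1
      have h3 : Matrix.SpecialLinearGroup.toGL t.val ∈ Subgroup.center (GL (Fin 2) F) :=
        (QuotientGroup.eq_one_iff _).mp h2
      rw [Matrix.GeneralLinearGroup.mem_center_iff_val_mem_range_scalar] at h3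
      obtain ⟨c, hc⟩ := h3
      have hc' : Matrix.scalar (Fin 2) c = t.val.val := hc
      rcases t.prop.2 with h | h
      · apply h; rw [← hc']; simp
      · apply h; rw [← hc']; simp
    obtain ⟨z, hz, hzG, hzc⟩ := central_lift hCen G A (hnil A hA) (a t) ht ht1
    exact ⟨z, nonscalar_of_not_center z hz, hzG, hzc⟩
  have hlin : ∀ (A : Subgroup ↥G) (z : GL (Fin 2) F),
      (z.val 0 1 ≠ 0 ∨ z.val 1 0 ≠ 0 ∨ z.val 0 0 ≠ z.val 1 1) →
      (∀ (k : GL (Fin 2) F) (hk : QuotientGroup.mk' (Subgroup.center (GL (Fin 2) F)) k ∈ G),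
        (⟨QuotientGroup.mk' (Subgroup.center (GL (Fin 2) F)) k, hk⟩ : ↥G) ∈ A →
        ∃ c : F, z.val * k.val = c • (k.val * z.val)) →
      ∀ t : ι, a t ∈ A → ∃ α β : F, β ≠ 0 ∧
        t.val.val = α • (1 : Matrix (Fin 2) (Fin 2) F) + β • z.val := by
    intro A z hzns hzc t ht
    obtain ⟨c, hc⟩ := hzc (Matrix.SpecialLinearGroup.toGL t.val) _ ht
    have hcomm : z.val * t.val.val = t.val.val * z.val :=
      hRig t.val.val z.val (by rw [t.val.prop]; exact one_ne_zero) (det_ne_zero_GL z)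
        t.prop.1 c hc
    obtain ⟨α, β, hαβ⟩ := hCZ z.val t.val.val hzns hcomm
    refine ⟨α, β, ?_, hαβ⟩
    rintro rfl
    rcases t.prop.2 with h | h
    · apply h; rw [hαβ]; simp
    · apply h; rw [hαβ]; simp
  have hdiag : ∀ (A : Subgroup ↥G) (z : GL (Fin 2) F),
      (z.val 0 1 ≠ 0 ∨ z.val 1 0 ≠ 0 ∨ z.val 0 0 ≠ z.val 1 1) →
      (∀ (k : GL (Fin 2) F) (hk : QuotientGroup.mk' (Subgroup.center (GL (Fin 2) F)) k ∈ G),
        (⟨QuotientGroup.mk' (Subgroup.center (GL (Fin 2) F)) k, hk⟩ : ↥G) ∈ A →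
        ∃ c : F, z.val * k.val = c • (k.val * z.val)) →
      z.val 0 1 = 0 → z.val 1 0 = 0 → ∀ t : ι, a t ∈ A → False := by
    intro A z hzns hzc h01 h10 t ht
    obtain ⟨α, β, -, e⟩ := hlin A z hzns hzc t ht
    rcases t.prop.2 with h | h
    · apply h; rw [e]; simp [h01]
    · apply h; rw [e]; simp [h10]
  have hS : ∀ t : ι, S t ≠ ⊤ := by
    intro t htop
    obtain ⟨g, hdet, hnot⟩ := hPR (by omega) t.val.val t.prop.2
    have hmem : incl G hG (⟨g, hdet⟩ : Matrix.SpecialLinearGroup (Fin 2) F)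
        ∈ imG G (nrm t.val.val) := by
      have htop' : imG G (nrm t.val.val) = ⊤ := htop
      rw [htop']; exact Subgroup.mem_top _
    exact hnot ((incl_mem_imG_iff G hG (nrm t.val.val) (center_le_nrm _) _).mp hmem)
  have hScov : ∀ γ : ↥G, ∃ t : ι, γ ∈ S t := by
    rintro ⟨γ, hγ⟩
    obtain ⟨g, rfl⟩ := QuotientGroup.mk'_surjective (Subgroup.center (GL (Fin 2) F)) γ
    by_cases hev : ∃ v : Fin 2 → F, v ≠ 0 ∧ ∃ c : F, g.val *ᵥ v = c • v
    · obtain ⟨v, hv, c, hc⟩ := hev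
      obtain ⟨t, hdet, htr, hnd, x, y, hy, hxy⟩ := hBO g.val (det_ne_zero_GL g) v hv c hc
      have htr' : t.trace ≠ 0 ∨ (2 : F) = 0 := by
        by_cases h2 : (2 : F) = 0
        · exact Or.inr h2
        · left; rw [htr]; exact h2
      exact ⟨⟨⟨t, hdet⟩, htr', hnd⟩,
        (mem_imG_iff G _ (center_le_nrm _) g hγ).mpr ⟨x, y, hy, hxy⟩⟩
    · push Not at hev
      have hroot : ∀ a : F, a ^ 2 + g.val.trace * a + g.val.det ≠ 0 := by
        intro a ha
        have hdet0 : (g.val + a • (1 : Matrix (Fin 2) (Fin 2) F)).det = 0 := by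
          rw [Matrix.det_fin_two]
          rw [Matrix.trace_fin_two, Matrix.det_fin_two] at ha
          simp only [Matrix.add_apply, Matrix.smul_apply, Matrix.one_apply_eq, smul_eq_mul,
            mul_one, Matrix.one_apply_ne (show (0 : Fin 2) ≠ 1 by decide),
            Matrix.one_apply_ne (show (1 : Fin 2) ≠ 0 by decide), mul_zero, add_zero]
          linear_combination ha
        obtain ⟨v, hv, hv0⟩ := Matrix.exists_mulVec_eq_zero_iff.mpr hdet0
        apply hev v hv (-a)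
        rw [Matrix.add_mulVec, Matrix.smul_mulVec, Matrix.one_mulVec] at hv0
        rw [neg_smul]
        exact eq_neg_of_add_eq_zero_left hv0
      obtain ⟨α, β, hβ, hdet1, htr⟩ := hN1 hq _ _ hroot
      have hg10 : g.val 1 0 ≠ 0 := by
        intro h0
        apply hev (Pi.single 0 1) (by intro h; have := congrFun h 0; simp at this) (g.val 0 0)
        rw [Matrix.mulVec_single_one]
        ext i
        fin_cases i <;> simp [h0]
      have hdett : (α • (1 : Matrix (Fin 2) (Fin 2) F) + β • g.val).det = 1 := by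
        rw [Matrix.trace_fin_two, Matrix.det_fin_two] at hdet1
        rw [Matrix.det_fin_two]
        simp only [Matrix.add_apply, Matrix.smul_apply, Matrix.one_apply_eq, smul_eq_mul,
          mul_one, Matrix.one_apply_ne (show (0 : Fin 2) ≠ 1 by decide),
          Matrix.one_apply_ne (show (1 : Fin 2) ≠ 0 by decide), mul_zero, zero_add]
        linear_combination hdet1
      refine ⟨⟨⟨α • (1 : Matrix (Fin 2) (Fin 2) F) + β • g.val, hdett⟩, ?_, ?_⟩, ?_⟩
      · rcases htr with h | h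
        · left
          show (α • (1 : Matrix (Fin 2) (Fin 2) F) + β • g.val).trace ≠ 0
          intro h'
          apply h
          rw [Matrix.trace_fin_two] at h' ⊢
          simp only [Matrix.add_apply, Matrix.smul_apply, Matrix.one_apply_eq, smul_eq_mul,
            mul_one] at h'
          linear_combination h'
        · exact Or.inr h
      · right
        show (α • (1 : Matrix (Fin 2) (Fin 2) F) + β • g.val) 1 0 ≠ 0
        simp [hβ, hg10]
      · refine (mem_imG_iff G _ (center_le_nrm _) g hγ).mpr ⟨0, 1, one_ne_zero, ?_⟩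
        show g.val * (α • (1 : Matrix (Fin 2) (Fin 2) F) + β • g.val)
          = ((0 : F) • (1 : Matrix (Fin 2) (Fin 2) F)
            + (1 : F) • (α • (1 : Matrix (Fin 2) (Fin 2) F) + β • g.val)) * g.val
        simp [mul_add, add_mul]
  have h1 : ∀ A ∈ 𝓐, ∀ t t' : ι, a t ∈ A → a t' ∈ A → S t = S t' := by
    intro A hA t t' ht ht'
    obtain ⟨z, hzns, -, hzc⟩ := hz_of A hA t ht
    obtain ⟨α, β, hβ, e⟩ := hlin A z hzns hzc t ht
    obtain ⟨α', β', hβ', e'⟩ := hlin A z hzns hzc t' ht'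
    show imG G (nrm t.val.val) = imG G (nrm t'.val.val)
    rw [e, e', nrm_eq _ _ _ hβ, nrm_eq _ _ _ hβ']
  by_cases hC : ∃ D : GL (Fin 2) F, D.val 0 1 = 0 ∧ D.val 1 0 = 0 ∧ D.val 0 0 ≠ D.val 1 1 ∧
      (D.val.trace ≠ 0 ∨ (2 : F) = 0) ∧
      QuotientGroup.mk' (Subgroup.center (GL (Fin 2) F)) D ∈ G
  · obtain ⟨D, hD01, hD10, hDne, hDtr, hDG⟩ := hC
    have hDeq : D.val = !![D.val 0 0, 0; 0, D.val 1 1] := by
      ext i j
      fin_cases i <;> fin_cases j <;> simp [hD01, hD10]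
    refine hII S a ⟨_, hDG⟩ hS hScov 𝓐 hcov hmin h1 ?_
    intro A hA t ht hb
    obtain ⟨z, hzns, -, hzc⟩ := hz_of A hA t ht
    obtain ⟨c, hc⟩ := hzc D hDG hb
    have hcomm := hRig D.val z.val (det_ne_zero_GL D) (det_ne_zero_GL z) hDtr c hc
    rw [hDeq] at hcomm
    obtain ⟨h01, h10⟩ := hCD z.val _ _ hDne hcomm
    exact hdiag A z hzns hzc h01 h10 t ht
  · push Not at hC
    have hB0 : ∀ a : F, a ≠ 0 → a = a⁻¹ ∨ (a + a⁻¹ = 0 ∧ (2 : F) ≠ 0) := by
      intro a ha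
      have hdet : (!![a, 0; 0, a⁻¹] : Matrix (Fin 2) (Fin 2) F).det = 1 := by
        rw [Matrix.det_fin_two_of]; simp [ha]
      have hmem : QuotientGroup.mk' (Subgroup.center (GL (Fin 2) F))
          (Matrix.SpecialLinearGroup.toGL ⟨!![a, 0; 0, a⁻¹], hdet⟩) ∈ G :=
        (incl G hG ⟨_, hdet⟩).prop
      by_contra hcon
      push Not at hcon
      refine hC (Matrix.SpecialLinearGroup.toGL ⟨!![a, 0; 0, a⁻¹], hdet⟩) ?_ ?_ ?_ ?_ hmem
      · show (!![a, 0; 0, a⁻¹] : Matrix (Fin 2) (Fin 2) F) 0 1 = 0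
        simp
      · show (!![a, 0; 0, a⁻¹] : Matrix (Fin 2) (Fin 2) F) 1 0 = 0
        simp
      · show (!![a, 0; 0, a⁻¹] : Matrix (Fin 2) (Fin 2) F) 0 0
          ≠ (!![a, 0; 0, a⁻¹] : Matrix (Fin 2) (Fin 2) F) 1 1
        simpa using hcon.1
      · show (!![a, 0; 0, a⁻¹] : Matrix (Fin 2) (Fin 2) F).trace ≠ 0 ∨ (2 : F) = 0
        by_cases h : a + a⁻¹ = 0
        · exact Or.inr (hcon.2 h)
        · left; rw [Matrix.trace_fin_two_of]; exact h
    have h2 : (2 : F) ≠ 0 := by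
      intro h2
      have all1 : ∀ a : F, a ≠ 0 → a = 1 := by
        intro a ha
        rcases hB0 a ha with h | ⟨-, h⟩
        · have h' : a * a = 1 := by
            nth_rewrite 2 [h]; exact mul_inv_cancel₀ ha
          have h'' : (a - 1) ^ 2 = 0 := by linear_combination h' + (1 - a) * h2
          exact sub_eq_zero.mp ((pow_eq_zero_iff (by norm_num)).mp h'')
        · exact absurd h2 h
      have hle : Fintype.card F ≤ 2 := by
        have hsub : (Finset.univ : Finset F) ⊆ {0, 1} := by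
          intro x _
          by_cases hx : x = 0
          · simp [hx]
          · simp [all1 x hx]
        calc Fintype.card F = (Finset.univ : Finset F).card := Finset.card_univ.symm
          _ ≤ ({0, 1} : Finset F).card := Finset.card_le_card hsub
          _ ≤ 2 := Finset.card_le_two
      omega
    have hB : ∀ a : F, a ≠ 0 → a ^ 2 = 1 ∨ a ^ 2 = -1 := by
      intro a ha
      rcases hB0 a ha with h | ⟨h, -⟩
      · left
        rw [sq]
        nth_rewrite 2 [h]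
        exact mul_inv_cancel₀ ha
      · right
        have h' : a * (a + a⁻¹) = 0 := by rw [h, mul_zero]
        rw [mul_add, mul_inv_cancel₀ ha] at h'
        linear_combination h'
    obtain ⟨i, hi⟩ : ∃ i : F, i ^ 2 = -1 := by
      have hcard : ({0, 1, -1} : Finset F).card < (Finset.univ : Finset F).card := by
        calc ({0, 1, -1} : Finset F).card ≤ 3 := Finset.card_le_three
          _ < Fintype.card F := by omega
          _ = (Finset.univ : Finset F).card := Finset.card_univ.symm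
      obtain ⟨x, -, hx⟩ := Finset.exists_mem_notMem_of_card_lt_card hcard
      simp only [Finset.mem_insert, Finset.mem_singleton, not_or] at hx
      refine ⟨x, ?_⟩
      rcases hB x hx.1 with h | h
      · exfalso
        have h' : (x - 1) * (x + 1) = 0 := by linear_combination h
        rcases mul_eq_zero.mp h' with h'' | h''
        · exact hx.2.1 (sub_eq_zero.mp h'')
        · exact hx.2.2 (eq_neg_of_add_eq_zero_left h'')
      · exact h
    have hi0 : i ≠ 0 := by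
      rintro rfl
      apply h2
      linear_combination 2 * hi
    have hi1 : i ≠ 1 := by
      rintro rfl
      apply h2
      linear_combination hi
    have hi1' : i + 1 ≠ 0 := by
      intro h
      apply h2
      linear_combination hi - (i - 1) * h
    let Di : GL (Fin 2) F :=
      ⟨!![i, 0; 0, 1], !![i⁻¹, 0; 0, 1],
        by rw [Matrix.mul_fin_two, Matrix.one_fin_two]; simp [hi0],
        by rw [Matrix.mul_fin_two, Matrix.one_fin_two]; simp [hi0]⟩
    have hDi : QuotientGroup.mk' (Subgroup.center (GL (Fin 2) F)) Di ∉ G := by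
      refine hC Di ?_ ?_ ?_ ?_
      · show (!![i, 0; 0, 1] : Matrix (Fin 2) (Fin 2) F) 0 1 = 0
        simp
      · show (!![i, 0; 0, 1] : Matrix (Fin 2) (Fin 2) F) 1 0 = 0
        simp
      · show (!![i, 0; 0, 1] : Matrix (Fin 2) (Fin 2) F) 0 0
          ≠ (!![i, 0; 0, 1] : Matrix (Fin 2) (Fin 2) F) 1 1
        simpa using hi1
      · left
        show (!![i, 0; 0, 1] : Matrix (Fin 2) (Fin 2) F).trace ≠ 0
        rw [Matrix.trace_fin_two_of]; exact hi1'
    have hsdet : (!![i, 0; 0, -i] : Matrix (Fin 2) (Fin 2) F).det = 1 := by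
      rw [Matrix.det_fin_two_of]
      linear_combination (-1 : F) * hi
    refine hII S a (incl G hG ⟨!![i, 0; 0, -i], hsdet⟩) hS hScov 𝓐 hcov hmin h1 ?_
    intro A hA t ht hb
    obtain ⟨z, hzns, hzG, hzc⟩ := hz_of A hA t ht
    obtain ⟨α, β, hβ, e⟩ := hlin A z hzns hzc t ht
    obtain ⟨c, hc⟩ := hzc (Matrix.SpecialLinearGroup.toGL ⟨!![i, 0; 0, -i], hsdet⟩) _ hb
    have hc' : z.val * !![i, 0; 0, -i] = c • (!![i, 0; 0, -i] * z.val) := hc
    have hz0 := det_ne_zero_GL z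
    have hcsq : (c - 1) * (c + 1) = 0 := by
      have h3 := congrArg Matrix.det hc'
      rw [Matrix.det_mul, Matrix.det_smul, Matrix.det_mul, hsdet] at h3
      simp only [Fintype.card_fin, mul_one, one_mul] at h3
      have h4 : (c ^ 2 - 1) * z.val.det = 0 := by linear_combination -h3
      rcases mul_eq_zero.mp h4 with h5 | h5
      · linear_combination h5
      · exact absurd h5 hz0
    rcases mul_eq_zero.mp hcsq with hc1 | hc1
    · have hc1' : c = 1 := sub_eq_zero.mp hc1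
      rw [hc1', one_smul] at hc'
      have hine : i ≠ -i := by
        intro h
        have h' : 2 * i = 0 := by linear_combination h
        rcases mul_eq_zero.mp h' with h'' | h''
        · exact h2 h''
        · exact hi0 h''
      obtain ⟨h01, h10⟩ := hCD z.val _ _ hine hc'
      exact hdiag A z hzns hzc h01 h10 t ht
    · have hc1' : c = -1 := eq_neg_of_add_eq_zero_left hc1
      rw [hc1', neg_one_smul] at hc'
      have hzt : z.val * t.val.val = t.val.val * z.val := by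
        rw [e]
        simp [mul_add, add_mul]
      refine hSP h2 hB i hi t.val.val z.val t.val.prop (t.prop.1.resolve_right h2) t.prop.2 hz0
        hzt hc' ?_
      intro μ hμ
      have hμ0 : μ ≠ 0 := by
        rintro rfl
        apply hz0
        rw [hμ]; simp
      have hMdet : (μ⁻¹ • ((!![i⁻¹, 0; 0, 1] : Matrix (Fin 2) (Fin 2) F) * z.val)).det = 1 := by
        rw [Matrix.det_smul, Matrix.det_mul, Matrix.det_fin_two_of, hμ, Fintype.card_fin, mul_one,
          mul_zero, sub_zero]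
        field_simp
      have hM : QuotientGroup.mk' (Subgroup.center (GL (Fin 2) F))
          (Matrix.SpecialLinearGroup.toGL ⟨_, hMdet⟩) ∈ G := (incl G hG ⟨_, hMdet⟩).prop
      have hrel : Matrix.GeneralLinearGroup.scalar (Fin 2) (Units.mk0 μ hμ0) * Di
          * Matrix.SpecialLinearGroup.toGL ⟨_, hMdet⟩ = z := by
        apply Units.ext
        rw [Units.val_mul, Units.val_mul, Matrix.GeneralLinearGroup.coe_scalar]
        show Matrix.scalar (Fin 2) μ * !![i, 0; 0, 1]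
          * (μ⁻¹ • ((!![i⁻¹, 0; 0, 1] : Matrix (Fin 2) (Fin 2) F) * z.val)) = z.val
        have hDD : (!![i, 0; 0, 1] : Matrix (Fin 2) (Fin 2) F) * !![i⁻¹, 0; 0, 1] = 1 := by
          rw [Matrix.mul_fin_two, Matrix.one_fin_two]; simp [hi0]
        calc Matrix.scalar (Fin 2) μ * !![i, 0; 0, 1]
              * (μ⁻¹ • ((!![i⁻¹, 0; 0, 1] : Matrix (Fin 2) (Fin 2) F) * z.val))
            = μ⁻¹ • (Matrix.scalar (Fin 2) μ
                * ((!![i, 0; 0, 1] : Matrix (Fin 2) (Fin 2) F) * !![i⁻¹, 0; 0, 1]) * z.val) := by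
              rw [Matrix.mul_smul]; simp only [mul_assoc]
          _ = μ⁻¹ • (Matrix.scalar (Fin 2) μ * z.val) := by rw [hDD, mul_one]
          _ = z.val := by
              rw [Matrix.scalar_apply, ← Matrix.smul_eq_diagonal_mul, smul_smul,
                inv_mul_cancel₀ hμ0, one_smul]
      have hmk := congrArg (QuotientGroup.mk' (Subgroup.center (GL (Fin 2) F))) hrel
      rw [map_mul, map_mul] at hmk
      have hsc : QuotientGroup.mk' (Subgroup.center (GL (Fin 2) F))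
          (Matrix.GeneralLinearGroup.scalar (Fin 2) (Units.mk0 μ hμ0)) = 1 := by
        apply (QuotientGroup.eq_one_iff _).mpr
        rw [Matrix.GeneralLinearGroup.center_eq_range_scalar]
        exact ⟨_, rfl⟩
      rw [hsc, one_mul] at hmk
      apply hDi
      have hfin : QuotientGroup.mk' (Subgroup.center (GL (Fin 2) F)) Di
          = QuotientGroup.mk' (Subgroup.center (GL (Fin 2) F)) z
            * (QuotientGroup.mk' (Subgroup.center (GL (Fin 2) F))
              (Matrix.SpecialLinearGroup.toGL ⟨_, hMdet⟩))⁻¹ := by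
        rw [← hmk]; group
      rw [hfin]
      exact G.mul_mem hzG (G.inv_mem hM)

end Cfsg.Agent.Lib.Helper79.NilCover
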